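import Cfsg.Agent.Sourour.Main

/-!
# Unimodular maps of small rank distance from the identity
-/

set_option autoImplicit false

namespace CfsgLib.Sourour

open Matrix Module Submodule

variable {K : Type*} [Field K]

theorem exists_basis_zero {V : Type*} [AddCommGroup V] [Module K V] [FiniteDimensional K V] {n : ℕ}
    {a : V} (ha : a ≠ 0) (h : finrank K V = n + 1) :
    ∃ b : Basis (Fin (n + 1)) K V, b 0 = a := by
  obtain ⟨χ, hχ, -⟩ := exists_dual_of_notMem (U := (⊥ : Submodule K V)) (x := a) (by simpa using ha)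
  obtain ⟨hχ1, -⟩ := normalise hχ
  have h1 := finrank_ker_add_one a ((χ a)⁻¹ • χ) (by rw [hχ1]; exact one_ne_zero)
  exact ⟨consBasis a _ hχ1
    (Module.finBasisOfFinrankEq K (LinearMap.ker ((χ a)⁻¹ • χ)) (n := n) (by omega)),
    consBasis_zero a _ hχ1 _⟩

/-- In a suitable basis a unimodular map with `A - 1` of rank one is an elementary transvection. -/
theorem exists_basis_transvection {n : ℕ} (A : Module.End K (Fin (n + 2) → K))
    (hdet : LinearMap.det A = 1) (hne : A ≠ 1)
    (hr : finrank K (LinearMap.range (A - 1)) ≤ 1) :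
    ∃ b : Basis (Fin (n + 2)) K (Fin (n + 2) → K),
      LinearMap.toMatrix b b A = 1 + Matrix.single 1 0 1 := by
  classical
  obtain ⟨v, hv⟩ : ∃ v, (A - 1) v ≠ 0 := by
    by_contra hc
    push Not at hc
    exact hne (sub_eq_zero.mp (LinearMap.ext hc))
  set a := (A - 1) v with ha
  have hspan : LinearMap.range (A - 1) = K ∙ a := by
    refine (Submodule.eq_of_le_of_finrank_le ?_ (by rw [finrank_span_singleton hv]; exact hr)).symm
    rw [span_singleton_le_iff_mem]
    exact ⟨v, rfl⟩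
  obtain ⟨ψ, hψ, -⟩ := exists_dual_of_notMem (U := (⊥ : Submodule K (Fin (n + 2) → K))) (x := a)
    (by simpa using hv)
  set f : Module.Dual K (Fin (n + 2) → K) := (ψ a)⁻¹ • (ψ ∘ₗ (A - 1)) with hf
  have hDf : ∀ x, (A - 1) x = f x • a := by
    intro x
    obtain ⟨t, ht⟩ := mem_span_singleton.mp (hspan ▸ LinearMap.mem_range_self (A - 1) x)
    rw [hf, LinearMap.smul_apply, LinearMap.comp_apply, ← ht, map_smul, smul_eq_mul, smul_eq_mul,
      mul_left_comm, inv_mul_cancel₀ hψ, mul_one]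
  have hfv : f v = 1 := by
    rw [hf, LinearMap.smul_apply, LinearMap.comp_apply, ← ha, smul_eq_mul, inv_mul_cancel₀ hψ]
  have hfa : f a = 0 := by
    set y : Fin (n + 2) → K := fun j => f (Pi.single j 1)
    have hM : LinearMap.toMatrix' A =
        1 + replicateCol (Fin 1) a * replicateRow (Fin 1) y := by
      ext i j
      have h := congrFun (hDf (Pi.single j 1)) i
      simp only [LinearMap.sub_apply, Module.End.one_apply, Pi.sub_apply, Pi.smul_apply,
        smul_eq_mul, sub_eq_iff_eq_add] at h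
      rw [LinearMap.toMatrix'_apply, h]
      simp [Matrix.one_apply, Pi.single_apply, y, Matrix.mul_apply, add_comm, mul_comm]
    have hd : LinearMap.det A = (LinearMap.toMatrix' A).det := (LinearMap.det_toMatrix' A).symm
    rw [hdet, hM, det_one_add_mul_comm, Matrix.det_fin_one, Matrix.add_apply, Matrix.one_apply_eq,
      left_eq_add] at hd
    rw [← hd]
    conv_lhs => rw [pi_eq_sum_univ' a]
    simp [y, Matrix.mul_apply, mul_comm]
  set a' : LinearMap.ker f := ⟨a, hfa⟩
  have h2 := finrank_ker_add_one v f (by rw [hfv]; exact one_ne_zero)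
  rw [Module.finrank_fin_fun] at h2
  obtain ⟨b1, hb1⟩ := exists_basis_zero (K := K) (V := LinearMap.ker f) (n := n) (a := a')
    (fun e => hv (congrArg Subtype.val e)) (by omega)
  refine ⟨consBasis v f hfv b1, ?_⟩
  set b := consBasis v f hfv b1
  have hA : A = 1 + (A - 1) := (add_sub_cancel _ _).symm
  rw [hA, map_add, LinearMap.toMatrix_one]
  congr 1
  ext i j
  rw [LinearMap.toMatrix_apply]
  refine Fin.cases ?_ (fun j => ?_) j
  · rw [consBasis_zero, ← ha, show a = b (Fin.succ (0 : Fin (n + 1))) by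
      rw [consBasis_succ, hb1], Basis.repr_self, Finsupp.single_apply,
      Fin.succ_zero_eq_one]
    simp [Matrix.single_apply]
  · rw [consBasis_succ, hDf, show f (b1 j : Fin (n + 2) → K) = 0 from (b1 j).2, zero_smul, map_zero]
    simp [Matrix.single_apply, (Fin.succ_ne_zero j).symm]

theorem toMatrix'_eq_conj {n : ℕ} (A : Module.End K (Fin n → K)) (b : Basis (Fin n) K (Fin n → K)) :
    ∃ X : (Matrix (Fin n) (Fin n) K)ˣ, LinearMap.toMatrix' A =
      (X : Matrix (Fin n) (Fin n) K) * LinearMap.toMatrix b b A *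
        (↑(X⁻¹) : Matrix (Fin n) (Fin n) K) := by
  set e := Pi.basisFun K (Fin n)
  refine ⟨⟨e.toMatrix b, b.toMatrix e, e.toMatrix_mul_toMatrix_flip b,
    b.toMatrix_mul_toMatrix_flip e⟩, ?_⟩
  change _ = e.toMatrix b * LinearMap.toMatrix b b A * b.toMatrix e
  rw [basis_toMatrix_mul_linearMap_toMatrix_mul_basis_toMatrix, LinearMap.toMatrix_eq_toMatrix']

/-- Every nonscalar unimodular matrix is the product of two conjugates of the Jordan block. -/
theorem exists_prod_conj (hK : 4 ≤ Cardinal.mk K) {n : ℕ} (hn : 2 ≤ n)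
    (g : Matrix (Fin n) (Fin n) K) (hg : ∀ c : K, g ≠ c • 1) (hdet : g.det = 1)
    (u : (Matrix (Fin n) (Fin n) K)ˣ) (hu : (u : Matrix (Fin n) (Fin n) K) = RegUnip.uMat) :
    ∃ x y : (Matrix (Fin n) (Fin n) K)ˣ,
      g = ((x * u * x⁻¹) * (y * u * y⁻¹) : (Matrix (Fin n) (Fin n) K)ˣ) := by
  obtain ⟨T, hT⟩ := exists_four hK
  set A : Module.End K (Fin n → K) := Matrix.toLin' g with hA
  have hgA : LinearMap.toMatrix' A = g := LinearMap.toMatrix'_toLin' g
  have hAdet : LinearMap.det A = 1 := by rw [hA, LinearMap.det_toLin', hdet]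
  have hsc : ∀ μ : K, A ≠ μ • 1 := by
    intro μ e
    refine hg μ ?_
    rw [← hgA, e, map_smul, LinearMap.toMatrix'_one]
  suffices h : ∃ (b : Basis (Fin n) K (Fin n → K)) (L U : Matrix (Fin n) (Fin n) K)
      (p q : (Matrix (Fin n) (Fin n) K)ˣ),
      L = (p : Matrix (Fin n) (Fin n) K) * u * (↑(p⁻¹) : Matrix (Fin n) (Fin n) K) ∧
      U = (q : Matrix (Fin n) (Fin n) K) * u * (↑(q⁻¹) : Matrix (Fin n) (Fin n) K) ∧
      LinearMap.toMatrix b b A = L * U by
    obtain ⟨b, L, U, p, q, hL, hU, hLU⟩ := h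
    obtain ⟨X, hX⟩ := toMatrix'_eq_conj A b
    rw [hLU, hgA] at hX
    exact ⟨X * p, X * q, prod_conj_of_similar u g L U X p q hX hL hU⟩
  by_cases hr : 2 ≤ finrank K (LinearMap.range (A - 1))
  · obtain ⟨k, rfl⟩ : ∃ k, n = k + 1 := ⟨n - 1, by omega⟩
    obtain ⟨b, L, U, hL, hU, hLU, -, -⟩ := exists_LU T hT (exists_five hK) k _
      (Module.finrank_fin_fun K) A hAdet (fun _ => ⟨hr, hsc⟩) (Pi.single 0 1) (by simp)
      (LinearMap.proj 0) (fun e => by simpa using LinearMap.congr_fun e (Pi.single 0 1))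
    obtain ⟨p, hp⟩ := hL.conj (by omega)
    obtain ⟨q, hq⟩ := hU.conj (by omega)
    exact ⟨b, L, U, p, q, by rw [hu]; exact hp, by rw [hu]; exact hq, hLU⟩
  · obtain ⟨k, rfl⟩ : ∃ k, n = k + 2 := ⟨n - 2, by omega⟩
    obtain ⟨b, hb⟩ := exists_basis_transvection A hAdet
      (fun e => hsc 1 (by rw [one_smul, e])) (by omega)
    obtain ⟨L, U, hL, hU, hLU⟩ := transvection_LU (n := k) T hT
    obtain ⟨p, hp⟩ := hL.conj (by omega)
    obtain ⟨q, hq⟩ := hU.conj (by omega)
    exact ⟨b, L, U, p, q, by rw [hu]; exact hp, by rw [hu]; exact hq, hb.trans hLU⟩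

end CfsgLib.Sourour
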