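import Cfsg.Agent.RegUnip.Basic
import Mathlib.LinearAlgebra.Basis.Fin
import Mathlib.LinearAlgebra.Matrix.ToLin
import Mathlib.SetTheory.Cardinal.Finite

/-!
# Regular triangular unipotent matrices and avoidance of subspaces

Preparations for writing a unimodular matrix as a product of two regular unipotent matrices.
-/

set_option autoImplicit false

namespace CfsgLib.Sourour

open Matrix CfsgLib.RegUnip

variable {K : Type*} [Field K]

/-- Lower unitriangular with no zero entry on the subdiagonal. -/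
def RegLower {m : ℕ} (L : Matrix (Fin m) (Fin m) K) : Prop :=
  (∀ i j : Fin m, i.val < j.val → L i j = 0) ∧ (∀ i, L i i = 1) ∧
    ∀ i j : Fin m, i.val = j.val + 1 → L i j ≠ 0

/-- Upper unitriangular with no zero entry on the superdiagonal. -/
def RegUpper {m : ℕ} (U : Matrix (Fin m) (Fin m) K) : Prop := RegLower Uᵀ

theorem pow_strictLower {m : ℕ} (N : Matrix (Fin m) (Fin m) K)
    (h0 : ∀ i j : Fin m, i.val ≤ j.val → N i j = 0) (k : ℕ) :
    (∀ i j : Fin m, i.val < j.val + k → (N ^ k) i j = 0) ∧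
      ((∀ i j : Fin m, i.val = j.val + 1 → N i j ≠ 0) →
        ∀ i j : Fin m, i.val = j.val + k → (N ^ k) i j ≠ 0) := by
  induction k with
  | zero =>
    refine ⟨fun i j h => ?_, fun _ i j h => ?_⟩
    · rw [pow_zero, one_apply_ne (Fin.ne_of_val_ne (by omega))]
    · rw [pow_zero, Fin.ext (by omega : i.val = j.val), one_apply_eq]
      exact one_ne_zero
  | succ k ih =>
    refine ⟨fun i j h => ?_, fun h1 i j h => ?_⟩
    · rw [pow_succ, mul_apply]
      refine Finset.sum_eq_zero fun l _ => ?_
      rcases lt_or_ge i.val (l.val + k) with hl | hl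
      · rw [ih.1 i l hl, zero_mul]
      · rw [h0 l j (by omega), mul_zero]
    · rw [pow_succ, mul_apply, Finset.sum_eq_single (⟨j.val + 1, by omega⟩ : Fin m)]
      · exact mul_ne_zero (ih.2 h1 i _ (by simp only; omega)) (h1 _ _ rfl)
      · intro l _ hl
        have hl' : l.val ≠ j.val + 1 := fun e => hl (Fin.ext e)
        rcases lt_or_ge i.val (l.val + k) with hl2 | hl2
        · rw [ih.1 i l hl2, zero_mul]
        · rw [h0 l j (by omega), mul_zero]
      · simp

/-- A regular nilpotent is similar to the shift. -/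
theorem exists_conj_shift {n : ℕ} (N : Matrix (Fin n) (Fin n) K) (hn : 0 < n) (hz : N ^ n = 0)
    (hne : N ^ (n - 1) ≠ 0) :
    ∃ X : Matrix (Fin n) (Fin n) K, IsUnit X ∧ N * X = X * nMat := by
  classical
  obtain ⟨v, hv⟩ : ∃ v : Fin n → K, N ^ (n - 1) *ᵥ v ≠ 0 := by
    by_contra hc
    push Not at hc
    exact hne (Matrix.ext_of_mulVec_single fun j => by rw [hc, zero_mulVec])
  set X : Matrix (Fin n) (Fin n) K := Matrix.of fun i j => (N ^ (n - 1 - j.val) *ᵥ v) i with hX
  refine ⟨X, Matrix.linearIndependent_cols_iff_isUnit.mp ?_, ?_⟩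
  · rw [Fintype.linearIndependent_iff]
    intro c hc
    have hc' : ∑ j : Fin n, c j • (N ^ (n - 1 - j.val) *ᵥ v) = 0 := hc
    by_contra hne'
    push Not at hne'
    obtain ⟨j0, hj0, hmax⟩ := (Finset.univ.filter fun j => c j ≠ 0).exists_max_image (fun j => j.val)
      (by obtain ⟨i, hi⟩ := hne'; exact ⟨i, by simp [hi]⟩)
    have h := congrArg (fun x => N ^ j0.val *ᵥ x) hc'
    simp only [mulVec_sum, mulVec_smul, mulVec_zero, mulVec_mulVec, ← pow_add] at h
    rw [Finset.sum_eq_single j0] at h
    · rw [show j0.val + (n - 1 - j0.val) = n - 1 by omega] at h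
      exact (Finset.mem_filter.mp hj0).2 ((smul_eq_zero.mp h).resolve_right hv)
    · intro b _ hb
      by_cases hcb : c b = 0
      · rw [hcb, zero_smul]
      · have := hmax b (Finset.mem_filter.mpr ⟨Finset.mem_univ _, hcb⟩)
        have hne2 : b.val ≠ j0.val := fun e => hb (Fin.ext e)
        rw [pow_eq_zero_of_le (by omega) hz, zero_mulVec, smul_zero]
    · simp
  · ext i j
    have hl : (N * X) i j = (N ^ (n - j.val) *ᵥ v) i := by
      have : (N * X) i j = (N *ᵥ (N ^ (n - 1 - j.val) *ᵥ v)) i := rfl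
      rw [this, mulVec_mulVec, ← pow_succ', show n - 1 - j.val + 1 = n - j.val by omega]
    rw [hl, mul_apply]
    rcases Nat.eq_zero_or_pos j.val with hj | hj
    · rw [hj, Nat.sub_zero, hz, zero_mulVec, Pi.zero_apply]
      exact (Finset.sum_eq_zero fun l _ => by simp [nMat, hj]).symm
    · rw [Finset.sum_eq_single (⟨j.val - 1, by omega⟩ : Fin n)]
      · simp only [hX, nMat, Matrix.of_apply]
        rw [if_pos (by omega), mul_one, show n - 1 - (j.val - 1) = n - j.val by omega]
      · intro l _ hl'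
        have : j.val ≠ l.val + 1 := fun e => hl' (Fin.ext (by simp only; omega))
        simp [nMat, this]
      · simp

theorem conj_uMat_of_index {n : ℕ} (hn : 0 < n) (M : Matrix (Fin n) (Fin n) K)
    (hz : (M - 1) ^ n = 0) (hne : (M - 1) ^ (n - 1) ≠ 0) :
    ∃ X : (Matrix (Fin n) (Fin n) K)ˣ, M = (X : Matrix (Fin n) (Fin n) K) * uMat * (↑(X⁻¹) : Matrix (Fin n) (Fin n) K) := by
  obtain ⟨X, hX, h⟩ := exists_conj_shift (M - 1) hn hz hne
  refine ⟨hX.unit, ?_⟩
  rw [Units.eq_mul_inv_iff_mul_eq, IsUnit.unit_spec, uMat_eq, mul_add, mul_one, ← h, sub_mul,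
    one_mul, add_sub_cancel]

theorem RegLower.conj {n : ℕ} (hn : 0 < n) {L : Matrix (Fin n) (Fin n) K} (h : RegLower L) :
    ∃ X : (Matrix (Fin n) (Fin n) K)ˣ, L = (X : Matrix (Fin n) (Fin n) K) * uMat * (↑(X⁻¹) : Matrix (Fin n) (Fin n) K) := by
  obtain ⟨h0, h1, h2⟩ := h
  have hlow : ∀ i j : Fin n, i.val ≤ j.val → (L - 1) i j = 0 := by
    intro i j hij
    rcases eq_or_ne i j with e | e
    · rw [e, Matrix.sub_apply, h1, one_apply_eq, sub_self]
    · have : i.val ≠ j.val := fun e' => e (Fin.ext e')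
      rw [Matrix.sub_apply, h0 i j (by omega), one_apply_ne e, sub_self]
  refine conj_uMat_of_index hn L ?_ ?_
  · ext i j
    exact (pow_strictLower _ hlow n).1 i j (by omega)
  · intro e
    have := (pow_strictLower _ hlow (n - 1)).2 (fun i j hij => ?_) ⟨n - 1, by omega⟩ ⟨0, hn⟩
      (by simp only; omega)
    · exact this (by rw [e]; rfl)
    · rw [Matrix.sub_apply, one_apply_ne (Fin.ne_of_val_ne (by omega)), sub_zero]
      exact h2 i j hij

theorem RegUpper.conj {n : ℕ} (hn : 0 < n) {U : Matrix (Fin n) (Fin n) K} (h : RegUpper U) :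
    ∃ X : (Matrix (Fin n) (Fin n) K)ˣ, U = (X : Matrix (Fin n) (Fin n) K) * uMat * (↑(X⁻¹) : Matrix (Fin n) (Fin n) K) := by
  obtain ⟨h0, h1, h2⟩ := h
  have hlow : ∀ i j : Fin n, i.val ≤ j.val → (Uᵀ - 1) i j = 0 := by
    intro i j hij
    rcases eq_or_ne i j with e | e
    · rw [e, Matrix.sub_apply, h1, one_apply_eq, sub_self]
    · have : i.val ≠ j.val := fun e' => e (Fin.ext e')
      rw [Matrix.sub_apply, h0 i j (by omega), one_apply_ne e, sub_self]
  have ht : ∀ k : ℕ, ((U - 1) ^ k)ᵀ = (Uᵀ - 1) ^ k := fun k => by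
    rw [transpose_pow, transpose_sub, transpose_one]
  refine conj_uMat_of_index hn U ?_ ?_
  · apply Matrix.transpose_injective
    rw [ht, transpose_zero]
    ext i j
    exact (pow_strictLower _ hlow n).1 i j (by omega)
  · intro e
    have := (pow_strictLower _ hlow (n - 1)).2 (fun i j hij => ?_) ⟨n - 1, by omega⟩ ⟨0, hn⟩
      (by simp only; omega)
    · exact this (by rw [← ht, e]; rfl)
    · rw [Matrix.sub_apply, one_apply_ne (Fin.ne_of_val_ne (by omega)), sub_zero]
      exact h2 i j hij

/-- A block matrix with a distinguished first row and column. -/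
def blk {m : ℕ} (a : K) (r c : Fin m → K) (D : Matrix (Fin m) (Fin m) K) :
    Matrix (Fin (m + 1)) (Fin (m + 1)) K :=
  Matrix.of (Fin.cons (Fin.cons a r) fun i => Fin.cons (c i) (D i))

section Blk

variable {m : ℕ} (a : K) (r c : Fin m → K) (D : Matrix (Fin m) (Fin m) K)

@[simp] theorem blk_zero_zero : blk a r c D 0 0 = a := rfl

@[simp] theorem blk_zero_succ (j : Fin m) : blk a r c D 0 j.succ = r j := rfl

@[simp] theorem blk_succ_zero (i : Fin m) : blk a r c D i.succ 0 = c i := rfl

@[simp] theorem blk_succ_succ (i j : Fin m) : blk a r c D i.succ j.succ = D i j := rfl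

theorem blk_mul (a' : K) (r' c' : Fin m → K) (D' : Matrix (Fin m) (Fin m) K) :
    blk a r c D * blk a' r' c' D' =
      blk (a * a' + r ⬝ᵥ c') (a • r' + r ᵥ* D') (a' • c + D *ᵥ c') (vecMulVec c r' + D * D') := by
  ext i j
  refine Fin.cases ?_ (fun i => ?_) i <;> refine Fin.cases ?_ (fun j => ?_) j <;>
    simp [mul_apply, Fin.sum_univ_succ, dotProduct, vecMul, mulVec, vecMulVec_apply, mul_comm a']

theorem det_blk_upper : (blk a r 0 D).det = a * D.det := by
  rw [det_succ_column_zero, Fin.sum_univ_succ]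
  simp [Matrix.submatrix, Fin.succAbove_zero]
  exact Or.inl rfl

theorem det_blk_lower : (blk a 0 c D).det = a * D.det := by
  rw [det_succ_row_zero, Fin.sum_univ_succ]
  simp [Matrix.submatrix, Fin.succAbove_zero]
  exact Or.inl rfl

end Blk

theorem RegLower.blk {m : ℕ} {c : Fin (m + 1) → K} {D : Matrix (Fin (m + 1)) (Fin (m + 1)) K}
    (hD : RegLower D) (hc : c 0 ≠ 0) : RegLower (Sourour.blk 1 0 c D) := by
  refine ⟨fun i j => ?_, fun i => ?_, fun i j => ?_⟩
  · refine Fin.cases ?_ (fun i => ?_) i <;> refine Fin.cases ?_ (fun j => ?_) j <;> intro h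
    · simp at h
    · simp
    · simp at h
    · simpa using hD.1 i j (by simpa using h)
  · refine Fin.cases ?_ (fun i => ?_) i
    · simp
    · simpa using hD.2.1 i
  · refine Fin.cases ?_ (fun i => ?_) i <;> refine Fin.cases ?_ (fun j => ?_) j <;> intro h
    · simp at h
    · simp at h
    · have : i = 0 := Fin.ext (by simpa using h)
      subst this
      rw [blk_succ_zero]
      exact hc
    · simpa using hD.2.2 i j (by simpa using h)

theorem RegUpper.blk {m : ℕ} {r : Fin (m + 1) → K} {D : Matrix (Fin (m + 1)) (Fin (m + 1)) K}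
    (hD : RegUpper D) (hr : r 0 ≠ 0) : RegUpper (Sourour.blk 1 r 0 D) := by
  have : (Sourour.blk 1 r 0 D)ᵀ = Sourour.blk 1 0 r Dᵀ := by
    ext i j
    refine Fin.cases ?_ (fun i => ?_) i <;> refine Fin.cases ?_ (fun j => ?_) j <;> simp
  rw [RegUpper, this]
  exact RegLower.blk hD hr

/-- Few proper subspaces do not cover the space. -/
theorem exists_avoid {V : Type*} [AddCommGroup V] [Module K V] :
    ∀ (l : List (Submodule K V)) (T : Finset K), l.length ≤ T.card → (∀ U ∈ l, U ≠ ⊤) →
      ∃ v : V, ∀ U ∈ l, v ∉ U := by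
  intro l T
  induction l with
  | nil => exact fun _ _ => ⟨0, by simp⟩
  | cons U l ih =>
    intro hlen hproper
    rw [List.length_cons] at hlen
    obtain ⟨u, hu⟩ := ih (by omega) fun W hW => hproper W (List.mem_cons_of_mem _ hW)
    by_cases huU : u ∈ U
    swap
    · exact ⟨u, fun W hW => (List.mem_cons.mp hW).elim (fun e => e ▸ huU) (hu W)⟩
    obtain ⟨w, hw⟩ : ∃ w, w ∉ U := by
      by_contra hc
      push Not at hc
      exact hproper U (List.mem_cons_self ..) (eq_top_iff.2 fun x _ => hc x)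
    by_contra hc
    push Not at hc
    have hmem : ∀ t ∈ T, ∃ W ∈ l, w + t • u ∈ W := by
      intro t _
      obtain ⟨W, hW, hWmem⟩ := hc (w + t • u)
      rcases List.mem_cons.mp hW with rfl | hW
      · exact absurd hWmem (fun h => hw (by simpa using W.sub_mem h (W.smul_mem t huU)))
      · exact ⟨W, hW, hWmem⟩
    choose! f hf hf' using hmem
    classical
    have hinj : Set.InjOn f T := by
      intro s hs t ht e
      by_contra hst
      have h1 := hf' s hs
      have h2 := hf' t ht
      rw [← e] at h2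
      have h3 : (s - t) • u ∈ f s := by simpa [sub_smul] using (f s).sub_mem h1 h2
      have := (f s).smul_mem (s - t)⁻¹ h3
      rw [inv_smul_smul₀ (sub_ne_zero.2 hst)] at this
      exact hu _ (hf s hs) this
    have := Finset.card_le_card_of_injOn (t := l.toFinset) f
      (fun t ht => List.mem_toFinset.mpr (hf t ht)) hinj
    have := l.toFinset_card_le
    omega

theorem exists_four (hK : 4 ≤ Cardinal.mk K) : ∃ T : Finset K, T.card = 4 := by
  obtain ⟨s, hs⟩ := Cardinal.exists_finset_le_card K 4 (by exact_mod_cast hK)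
  exact Finset.exists_subset_card_eq hs |>.imp fun _ h => h.2

theorem exists_five (hK : 4 ≤ Cardinal.mk K) (h2 : (2 : K) ≠ 0) : ∃ T : Finset K, T.card = 5 := by
  classical
  by_contra hc
  push Not at hc
  haveI : Finite K := by
    by_contra hinf
    rw [not_finite_iff_infinite] at hinf
    obtain ⟨s, hs⟩ := Infinite.exists_subset_card_eq K 5
    exact hc s hs
  letI := Fintype.ofFinite K
  rw [Cardinal.mk_fintype] at hK
  have h4 : Fintype.card K = 4 := by
    refine le_antisymm ?_ (by exact_mod_cast hK)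
    by_contra h5
    obtain ⟨s, -, hs⟩ := Finset.exists_subset_card_eq (s := (Finset.univ : Finset K)) (n := 5)
      (by rw [Finset.card_univ]; omega)
    exact hc s hs
  have h : ((4 : ℕ) : K) = 0 := by rw [← h4]; exact FiniteField.cast_card_eq_zero K
  exact h2 (mul_self_eq_zero.mp (by push_cast at h; linear_combination h))

end CfsgLib.Sourour
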