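import Cfsg.Agent.Sourour.Basic
import Mathlib.LinearAlgebra.Determinant
import Mathlib.LinearAlgebra.Dual.Lemmas
import Mathlib.LinearAlgebra.FiniteDimensional.Lemmas

/-!
# One step of the triangular factorisation
-/

set_option autoImplicit false

namespace CfsgLib.Sourour

open Matrix Module Submodule

variable {K V : Type*} [Field K] [AddCommGroup V] [Module K V]

/-- `A - 1` has rank at least two and `A` is not scalar. -/
def Good (A : Module.End K V) : Prop :=
  2 ≤ finrank K (LinearMap.range (A - 1)) ∧ ∀ μ : K, A ≠ μ • 1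

variable (A : Module.End K V) (v : V) (φ : Module.Dual K V)

theorem schur_mem (hv : φ v = 1) (hc : φ ((A - 1) v) = 0) (w : LinearMap.ker φ) :
    ((A - (φ ∘ₗ A).smulRight (A v)) ∘ₗ (LinearMap.ker φ).subtype) w ∈ LinearMap.ker φ := by
  have h1 : φ (A v) = 1 := by
    rw [LinearMap.sub_apply, map_sub, sub_eq_zero] at hc
    simpa [hv] using hc
  simp [h1]

/-- The Schur complement on `ker φ`. -/
def schur (hv : φ v = 1) (hc : φ ((A - 1) v) = 0) : Module.End K (LinearMap.ker φ) :=
  LinearMap.codRestrict _ ((A - (φ ∘ₗ A).smulRight (A v)) ∘ₗ (LinearMap.ker φ).subtype)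
    (schur_mem A v φ hv hc)

theorem coe_schur (hv : φ v = 1) (hc : φ ((A - 1) v) = 0) (w : LinearMap.ker φ) :
    (schur A v φ hv hc w : V) = A w - φ (A w) • A v := by
  simp [schur]

/-- The basis obtained by putting `v` in front of a basis of `ker φ`. -/
noncomputable def consBasis (hv : φ v = 1) {m : ℕ} (b : Basis (Fin m) K (LinearMap.ker φ)) :
    Basis (Fin (m + 1)) K V :=
  Basis.mkFinCons v b
    (fun c x hx h => by
      have := congrArg φ h
      simpa [hv, LinearMap.mem_ker.mp hx] using this)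
    (fun z => ⟨-φ z, by simp [hv]⟩)

theorem consBasis_zero (hv : φ v = 1) {m : ℕ} (b : Basis (Fin m) K (LinearMap.ker φ)) :
    consBasis v φ hv b 0 = v := by
  simp [consBasis]

theorem consBasis_succ (hv : φ v = 1) {m : ℕ} (b : Basis (Fin m) K (LinearMap.ker φ)) (i : Fin m) :
    consBasis v φ hv b i.succ = b i := by
  simp [consBasis]

theorem consBasis_repr (hv : φ v = 1) {m : ℕ} (b : Basis (Fin m) K (LinearMap.ker φ)) (z : V)
    (x : LinearMap.ker φ) (hx : (x : V) = z - φ z • v) :
    ((consBasis v φ hv b).repr z : Fin (m + 1) → K) = Fin.cons (φ z) (b.repr x) := by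
  have hz : z = ∑ i, (Fin.cons (φ z) (b.repr x) : Fin (m + 1) → K) i • consBasis v φ hv b i := by
    rw [Fin.sum_univ_succ]
    simp only [Fin.cons_zero, Fin.cons_succ, consBasis_zero, consBasis_succ]
    have : ∑ i, b.repr x i • (b i : V) = x := by
      have h := congrArg (LinearMap.ker φ).subtype (b.sum_repr x)
      simp only [map_sum, map_smul] at h
      exact h
    rw [this, hx]
    abel
  conv_lhs => rw [hz]
  exact (consBasis v φ hv b).repr_sum_self _

theorem toMatrix_consBasis (hv : φ v = 1) (hc : φ ((A - 1) v) = 0) {m : ℕ}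
    (b : Basis (Fin m) K (LinearMap.ker φ)) :
    LinearMap.toMatrix (consBasis v φ hv b) (consBasis v φ hv b) A =
      blk 1 (fun j => φ (A (b j))) (b.repr ⟨(A - 1) v, hc⟩)
        (vecMulVec (b.repr ⟨(A - 1) v, hc⟩) (fun j => φ (A (b j))) +
          LinearMap.toMatrix b b (schur A v φ hv hc)) := by
  have h1 : φ (A v) = 1 := by
    have := hc
    rw [LinearMap.sub_apply, map_sub, sub_eq_zero] at this
    simpa [hv] using this
  obtain ⟨c, hcc, hcv⟩ : ∃ c : LinearMap.ker φ, c = ⟨(A - 1) v, hc⟩ ∧ (c : V) = A v - v :=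
    ⟨_, rfl, by simp⟩
  rw [← hcc]
  ext i j
  rw [LinearMap.toMatrix_apply]
  refine Fin.cases ?_ (fun j => ?_) j
  · rw [consBasis_zero, consBasis_repr v φ hv b (A v) c (by simp [h1, hcv])]
    refine Fin.cases ?_ (fun i => ?_) i <;> simp [h1]
  · rw [consBasis_succ, consBasis_repr v φ hv b (A (b j))
      (φ (A (b j)) • c + schur A v φ hv hc (b j))
      (by simp [coe_schur, smul_sub, hcv])]
    refine Fin.cases ?_ (fun i => ?_) i
    · simp
    · simp [vecMulVec_apply, LinearMap.toMatrix_apply, mul_comm]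

theorem det_schur [FiniteDimensional K V] (hv : φ v = 1) (hc : φ ((A - 1) v) = 0) :
    LinearMap.det (schur A v φ hv hc) = LinearMap.det A := by
  let b := Module.finBasis K (LinearMap.ker φ)
  rw [← LinearMap.det_toMatrix b, ← LinearMap.det_toMatrix (consBasis v φ hv b),
    toMatrix_consBasis A v φ hv hc b]
  set c := (b.repr ⟨(A - 1) v, hc⟩ : Fin _ → K)
  set D := LinearMap.toMatrix b b (schur A v φ hv hc)
  set r := fun j => φ (A (b j))
  have h : blk 1 r c (vecMulVec c r + D) = blk 1 0 c 1 * blk 1 r 0 D := by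
    rw [blk_mul]
    simp
  rw [h, det_mul, det_blk_lower, det_blk_upper]
  simp

theorem finrank_ker_add_one [FiniteDimensional K V] (hv : φ v ≠ 0) :
    finrank K (LinearMap.ker φ) + 1 = finrank K V := by
  have hs : Function.Surjective φ := fun t => ⟨(t / φ v) • v, by simp [div_mul_cancel₀ _ hv]⟩
  rw [← φ.finrank_range_add_finrank_ker, LinearMap.range_eq_top.2 hs, finrank_top, finrank_self,
    add_comm]

theorem exists_dual_of_notMem {U : Submodule K V} {x : V} (hx : x ∉ U) :
    ∃ ψ : Module.Dual K V, ψ x ≠ 0 ∧ ∀ u ∈ U, ψ u = 0 := by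
  obtain ⟨ψ, h1, h2⟩ := Submodule.exists_dual_map_eq_bot_of_notMem hx inferInstance
  exact ⟨ψ, h1, fun u hu => by
    have : ψ u ∈ U.map ψ := ⟨u, hu, rfl⟩
    rwa [h2, Submodule.mem_bot] at this⟩

theorem exists_notMem_of_finrank_lt [FiniteDimensional K V] {U : Submodule K V}
    (h : finrank K U < finrank K V) : ∃ x : V, x ∉ U := by
  by_contra hc
  push Not at hc
  rw [show U = ⊤ from eq_top_iff.2 fun x _ => hc x, finrank_top] at h
  exact lt_irrefl _ h

theorem finrank_span_pair_le (x y : V) : finrank K (span K ({x, y} : Set V)) ≤ 2 := by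
  classical
  have h := finrank_span_finset_le_card (R := K) ({x, y} : Finset V)
  rw [Finset.coe_insert, Finset.coe_singleton] at h
  exact h.trans Finset.card_le_two

end CfsgLib.Sourour
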