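import Cfsg.Agent.Sourour.Vector

/-!
# The choice of the first coordinate functional
-/

set_option autoImplicit false

namespace CfsgLib.Sourour

open Matrix Module Submodule

variable {K V : Type*} [Field K] [AddCommGroup V] [Module K V] [FiniteDimensional K V]

theorem eq_one_of_det_eq_one {f : Module.End K V} (h : finrank K V = 1) (hf : LinearMap.det f = 1) :
    f = 1 := by
  obtain ⟨u, hu, hspan⟩ := finrank_eq_one_iff'.mp h
  obtain ⟨a, ha⟩ := hspan (f u)
  have he : f = a • (1 : Module.End K V) := LinearMap.ext fun x => by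
    obtain ⟨c, rfl⟩ := hspan x
    simp only [map_smul, ← ha, LinearMap.smul_apply, Module.End.one_apply]
  rw [he, LinearMap.det_smul, h, pow_one, map_one, mul_one] at hf
  rw [he, hf, one_smul]

theorem notMem_line_of_notMem {A : Module.End K V} {v : V} (hv : A v ∉ K ∙ v) :
    v ∉ K ∙ (A - 1) v := by
  intro h
  obtain ⟨t, ht⟩ := mem_span_singleton.mp h
  rcases eq_or_ne t 0 with rfl | ht0
  · rw [zero_smul] at ht
    exact hv (by simp [← ht])
  · apply hv
    have h1 : (A - 1) v = t⁻¹ • v := by
      conv_rhs => rw [← ht]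
      rw [inv_smul_smul₀ ht0]
    rw [LinearMap.sub_apply, Module.End.one_apply, sub_eq_iff_eq_add] at h1
    rw [h1]
    exact add_mem (smul_mem _ _ (mem_span_singleton_self v)) (mem_span_singleton_self v)

theorem normalise {v : V} {ψ : Module.Dual K V} (h : ψ v ≠ 0) :
    ((ψ v)⁻¹ • ψ) v = 1 ∧ ∀ x, (((ψ v)⁻¹ • ψ) x = 0 ↔ ψ x = 0) := by
  simp [h]

/-- In dimension three the vector `(A - 1)⁻¹ A v` is not proportional to `(A - 1) v`. -/
theorem notMem_of_dim_three (A : Module.End K V) (hdet : LinearMap.det A = 1)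
    (h3 : finrank K V = 3) (htop : LinearMap.range (A - 1) = ⊤) {v s : V} (hv : A v ∉ K ∙ v)
    (hs : (A - 1) s = A v) : s ∉ K ∙ (A - 1) v := by
  classical
  intro hmem
  obtain ⟨k, hk⟩ := mem_span_singleton.mp hmem
  have hk0 : k ≠ 0 := by
    rintro rfl
    rw [zero_smul] at hk
    rw [← hk, map_zero] at hs
    exact hv (hs ▸ zero_mem _)
  set c := (A - 1) v with hc
  have hDc : (A - 1) c = k⁻¹ • A v := by
    rw [← hs, ← hk, map_smul, inv_smul_smul₀ hk0]
  obtain ⟨ψ, hψv, hψ⟩ := exists_dual_of_notMem (notMem_line_of_notMem hv)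
  obtain ⟨hφv, hφ⟩ := normalise hψv
  set φ := (ψ v)⁻¹ • ψ
  have hφc : φ c = 0 := (hφ c).2 (hψ _ (mem_span_singleton_self _))
  have hφAv : φ (A v) = 1 := by
    have h : φ (A v) - φ v = 0 := by rw [← map_sub]; exact hφc
    rw [sub_eq_zero.mp h, hφv]
  set B := schur A v φ hφv hφc
  set c' : LinearMap.ker φ := ⟨c, hφc⟩
  have hAc : A c = k⁻¹ • A v + c := by
    rw [← hDc]
    simp
  have hBc : B c' = c' := Subtype.ext <| by
    rw [coe_schur]
    change A c - φ (A c) • A v = c
    rw [hAc, map_add, map_smul, hφAv, hφc, smul_eq_mul, mul_one, add_zero, add_sub_cancel_left]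
  have hc0 : c' ≠ 0 := fun e => hv (by
    have : c = 0 := congrArg Subtype.val e
    rw [hc, LinearMap.sub_apply, sub_eq_zero, Module.End.one_apply] at this
    rw [this]
    exact mem_span_singleton_self v)
  have hWdim := finrank_ker_add_one v φ (by rw [hφv]; exact one_ne_zero)
  obtain ⟨χ, hχc, -⟩ := exists_dual_of_notMem (U := (⊥ : Submodule K (LinearMap.ker φ))) (by simpa using hc0)
  obtain ⟨hχ1, -⟩ := normalise hχc
  set χ' := (χ c')⁻¹ • χ
  have hχB : χ' ((B - 1) c') = 0 := by rw [LinearMap.sub_apply, hBc]; simp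
  have hB1 : ∀ w, (B - 1) w ∈ K ∙ c' := by
    have hone : schur B c' χ' hχ1 hχB = 1 := by
      refine eq_one_of_det_eq_one ?_ ?_
      · have := finrank_ker_add_one c' χ' (by rw [hχ1]; exact one_ne_zero)
        omega
      · rw [det_schur, det_schur, hdet]
    intro w
    set u : LinearMap.ker χ' := ⟨w - χ' w • c', by simp [hχ1]⟩ with hu
    have h := congrArg Subtype.val (LinearMap.congr_fun hone u)
    rw [coe_schur, hBc, Module.End.one_apply] at h
    refine mem_span_singleton.mpr ⟨χ' (B u), ?_⟩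
    have hw : (B - 1) w = B (u : LinearMap.ker φ) - u := by
      simp [u, map_sub, map_smul, hBc]
    rw [hw]
    linear_combination (norm := module) (-1 : K) • h
  have hle : LinearMap.range (A - 1) ≤ span K ({c, A v} : Set V) := by
    rintro _ ⟨z, rfl⟩
    set w : LinearMap.ker φ := ⟨z - φ z • v, by simp [hφv]⟩
    obtain ⟨a, ha⟩ := mem_span_singleton.mp (hB1 w)
    have ha' : a • c = A w - φ (A w) • A v - w := by
      have := congrArg Subtype.val ha
      simpa [B, coe_schur, c'] using this
    have hz : (A - 1) z = (a + φ z) • c + φ (A w) • A v := by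
      have e : (A - 1) z = A w - w + φ z • c := by
        simp only [hc, w, LinearMap.sub_apply, Module.End.one_apply, map_sub, map_smul, smul_sub]
        abel
      rw [e, add_smul, ha']
      abel
    rw [hz]
    exact add_mem (smul_mem _ _ (subset_span (by simp))) (smul_mem _ _ (subset_span (by simp)))
  have := Submodule.finrank_mono hle
  rw [htop, finrank_top] at this
  have := finrank_span_pair_le (K := K) c (A v)
  omega

/-- The functionals for which the Schur complement is scalar. -/
def IsBad (A : Module.End K V) (v : V) (ψ : Module.Dual K V) : Prop :=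
  ψ ((A - 1) v) = 0 ∧ ψ v ≠ 0 ∧
    ∃ μ : K, μ ≠ 1 ∧ μ ^ (finrank K V - 1) = 1 ∧ ∀ w, ψ w = 0 → A w - μ • w ∈ K ∙ A v

theorem isBad_unique (A : Module.End K V) {v : V} (hv : A v ∉ K ∙ v) (h3 : 3 ≤ finrank K V)
    {ψ ψ' : Module.Dual K V} (h : IsBad A v ψ) (h' : IsBad A v ψ') : ∃ t : K, ψ' = t • ψ := by
  classical
  obtain ⟨-, hψ, μ, -, hμn, hμ⟩ := h
  obtain ⟨-, hψ', μ', -, -, hμ'⟩ := h'
  obtain ⟨u, hu⟩ := exists_notMem_of_finrank_lt (U := span K ({v, A v} : Set V))
    (lt_of_le_of_lt (finrank_span_pair_le _ _) (by omega))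
  have hmem : ∀ (χ : Module.Dual K V) (ν : K), χ v ≠ 0 → (∀ w, χ w = 0 → A w - ν • w ∈ K ∙ A v) →
      A u - ν • u ∈ span K ({v, A v} : Set V) := by
    intro χ ν hχ hν
    set t := χ u / χ v
    obtain ⟨a, ha⟩ := mem_span_singleton.mp (hν (u - t • v) (by simp [t, div_mul_cancel₀ _ hχ]))
    refine mem_span_pair.mpr ⟨-(ν * t), a + t, ?_⟩
    rw [add_smul, ha, map_sub, map_smul]
    module
  have hμμ : μ' = μ := by
    by_contra hne
    refine hu ?_
    have h := sub_mem (hmem ψ μ hψ hμ) (hmem ψ' μ' hψ' hμ')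
    have h2 : (μ' - μ) • u ∈ span K ({v, A v} : Set V) := by
      convert h using 1
      module
    simpa [inv_smul_smul₀ (sub_ne_zero.2 hne)] using smul_mem _ (μ' - μ)⁻¹ h2
  subst hμμ
  have hμ0 : μ' ≠ 0 := by
    rintro rfl
    rw [zero_pow (by omega)] at hμn
    exact zero_ne_one hμn
  have hvS : A v - μ' • v ∉ K ∙ A v := by
    intro hm
    obtain ⟨a, ha⟩ := mem_span_singleton.mp hm
    have h1 : μ' • v = (1 - a) • A v := by rw [sub_smul, one_smul, ha, sub_sub_cancel]
    rcases eq_or_ne a 1 with rfl | ha1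
    · rw [sub_self, zero_smul, smul_eq_zero] at h1
      exact hψ (by rw [h1.resolve_left hμ0, map_zero])
    · refine hv (mem_span_singleton.mpr ⟨(1 - a)⁻¹ * μ', ?_⟩)
      rw [mul_smul, h1, inv_smul_smul₀ (sub_ne_zero.2 ha1.symm)]
  refine ⟨ψ' v / ψ v, LinearMap.ext fun x => ?_⟩
  set w := x - (ψ x / ψ v) • v
  have hw : ψ w = 0 := by simp [w, div_mul_cancel₀ _ hψ]
  have hw' : ψ' w = 0 := by
    by_contra hne
    refine hvS ?_
    set w' := w - (ψ' w / ψ' v) • v
    have hw2 : ψ' w' = 0 := by simp [w', div_mul_cancel₀ _ hψ']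
    have h := sub_mem (hμ w hw) (hμ' w' hw2)
    have h2 : (ψ' w / ψ' v) • (A v - μ' • v) ∈ K ∙ A v := by
      convert h using 1
      simp only [w', map_sub, map_smul]
      module
    have h3 := smul_mem _ (ψ' w / ψ' v)⁻¹ h2
    rwa [inv_smul_smul₀ (div_ne_zero hne hψ')] at h3
  simp only [w, map_sub, map_smul, smul_eq_mul, sub_eq_zero] at hw'
  rw [LinearMap.smul_apply, smul_eq_mul, hw']
  ring

theorem good_schur (A : Module.End K V) (hdet : LinearMap.det A = 1) {v : V} {φ : Module.Dual K V}
    (hφv : φ v = 1) (hφc : φ ((A - 1) v) = 0)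
    (hrank : finrank K ((K ∙ A v).comap (A - 1)) + 3 ≤ finrank K V ∨
      ∃ s ∈ (K ∙ A v).comap (A - 1), φ s ≠ 0 ∧
        finrank K ((K ∙ A v).comap (A - 1)) + 2 ≤ finrank K V)
    (hbad : ¬ IsBad A v φ) : Good (schur A v φ hφv hφc) := by
  classical
  set B := schur A v φ hφv hφc
  set S := (K ∙ A v).comap (A - 1)
  have hWdim := finrank_ker_add_one v φ (by rw [hφv]; exact one_ne_zero)
  have hle : (LinearMap.ker (B - 1)).map (LinearMap.ker φ).subtype ≤ S := by
    rintro _ ⟨w, hw, rfl⟩
    refine mem_span_singleton.mpr ⟨φ (A w), ?_⟩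
    have h := congrArg Subtype.val (LinearMap.mem_ker.mp hw)
    simp only [B, LinearMap.sub_apply, Submodule.coe_sub, coe_schur, Module.End.one_apply,
      ZeroMemClass.coe_zero] at h
    change φ (A w) • A v = A w - w
    linear_combination (norm := module) (-1 : K) • h
  have hleW : (LinearMap.ker (B - 1)).map (LinearMap.ker φ).subtype ≤ LinearMap.ker φ :=
    Submodule.map_subtype_le _ _
  have hfin := Submodule.finrank_map_subtype_eq (LinearMap.ker φ) (LinearMap.ker (B - 1))
  have hrn := (B - 1).finrank_range_add_finrank_ker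
  have hrk : 2 ≤ finrank K (LinearMap.range (B - 1)) := by
    rcases hrank with h | ⟨s, hs, hφs, h⟩
    · have := Submodule.finrank_mono hle
      omega
    · have hlt : (LinearMap.ker (B - 1)).map (LinearMap.ker φ).subtype < S :=
        lt_of_le_of_ne hle fun e => hφs (hleW (e ▸ hs))
      have := Submodule.finrank_lt_finrank_of_lt hlt
      omega
  refine ⟨hrk, fun μ hμ => hbad ⟨hφc, by rw [hφv]; exact one_ne_zero, μ, ?_, ?_, ?_⟩⟩
  · rintro rfl
    rw [hμ, one_smul, sub_self, LinearMap.range_zero, finrank_bot] at hrk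
    omega
  · have h := det_schur A v φ hφv hφc
    rw [show schur A v φ hφv hφc = B from rfl, hμ, LinearMap.det_smul, map_one, mul_one, hdet] at h
    rwa [show finrank K V - 1 = finrank K (LinearMap.ker φ) by omega]
  · intro w hw
    refine mem_span_singleton.mpr ⟨φ (A w), ?_⟩
    have h := congrArg Subtype.val (LinearMap.congr_fun hμ ⟨w, hw⟩)
    simp only [B, coe_schur, LinearMap.smul_apply, Module.End.one_apply, SetLike.val_smul] at h
    rw [← h]
    abel

theorem exists_phi (T : Finset K) (hT : T.card = 4)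
    (hT5 : (2 : K) ≠ 0 → ∃ T' : Finset K, T'.card = 5) (A : Module.End K V)
    (hdet : LinearMap.det A = 1) (hA : Good A) (r0 : Module.Dual K V) (hr0 : r0 ≠ 0) (c0 : V)
    (hc0 : c0 ≠ 0) :
    ∃ (v : V) (φ : Module.Dual K V) (hφv : φ v = 1) (hφc : φ ((A - 1) v) = 0),
      (A - 1) v ≠ 0 ∧ r0 v ≠ 0 ∧ φ c0 ≠ 0 ∧ (∃ w, φ w = 0 ∧ φ (A w) ≠ 0) ∧
        (3 ≤ finrank K V → Good (schur A v φ hφv hφc)) := by
  classical
  obtain ⟨v, hr0v, hDv, hAv, hvR, hD2⟩ := exists_vec T hT A hA r0 hr0 c0 hc0
  set c := (A - 1) v with hcdef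
  have hvc : v ∉ K ∙ c := notMem_line_of_notMem hAv
  have hc0c : c0 ∉ K ∙ c := by
    intro h
    obtain ⟨t, ht⟩ := mem_span_singleton.mp h
    have ht0 : t ≠ 0 := by
      rintro rfl
      exact hc0 (by rw [← ht, zero_smul])
    exact hDv (mem_span_singleton.mpr ⟨t⁻¹, by rw [← ht, inv_smul_smul₀ ht0]⟩)
  have hcne : c ≠ 0 := fun e => hDv (by rw [e]; exact zero_mem _)
  obtain ⟨u0, hu0⟩ := exists_range_notMem_line hA.1 c
  have hrangeV := (A - 1).finrank_range_add_finrank_ker
  have hR2 := hA.1
  -- the conclusion from a good functional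
  suffices h : ∃ ψ : Module.Dual K V, ψ c = 0 ∧ ψ v ≠ 0 ∧ ψ c0 ≠ 0 ∧ (∃ u, ψ ((A - 1) u) ≠ 0) ∧
      (3 ≤ finrank K V → (finrank K ((K ∙ A v).comap (A - 1)) + 3 ≤ finrank K V ∨
        ∃ s ∈ (K ∙ A v).comap (A - 1), ψ s ≠ 0 ∧
          finrank K ((K ∙ A v).comap (A - 1)) + 2 ≤ finrank K V) ∧ ¬ IsBad A v ψ) by
    obtain ⟨ψ, hψc, hψv, hψc0, ⟨u, hu⟩, hψ⟩ := h
    obtain ⟨hφv, hφ⟩ := normalise hψv
    set φ := (ψ v)⁻¹ • ψ
    refine ⟨v, φ, hφv, (hφ c).2 hψc, hcne, hr0v, fun e => hψc0 ((hφ _).1 e), ?_, fun h3 => ?_⟩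
    · refine ⟨u - φ u • v, by simp [hφv], fun e => hu ?_⟩
      have e' : φ (A (u - φ u • v)) = φ ((A - 1) u) := by
        have : φ (A v) - φ v = 0 := by rw [← map_sub]; exact (hφ c).2 hψc
        rw [sub_eq_zero, hφv] at this
        simp [this]
      exact (hφ _).1 (e' ▸ e)
    · obtain ⟨hr, hb⟩ := hψ h3
      refine good_schur A hdet hφv _ ?_ fun hbd => hb ⟨hψc, hψv, ?_⟩
      · exact hr.imp id fun ⟨s, hs, h1, h2⟩ => ⟨s, hs, fun e => h1 ((hφ s).1 e), h2⟩
      · obtain ⟨μ, h1, h2, h4⟩ := hbd.2.2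
        exact ⟨μ, h1, h2, fun w hw => h4 w ((hφ w).2 hw)⟩
  by_cases h3 : 3 ≤ finrank K V
  · -- the space of admissible functionals
    let C : Submodule K (Module.Dual K V) := LinearMap.ker (Module.Dual.eval K V c)
    let An : V → Submodule K C := fun x => (LinearMap.ker (Module.Dual.eval K V x)).comap C.subtype
    let Ar : Submodule K C := (LinearMap.ker (A - 1).dualMap).comap C.subtype
    have hAn : ∀ x, x ∉ K ∙ c → An x ≠ ⊤ := by
      intro x hx e
      obtain ⟨ψ, h1, h2⟩ := exists_dual_of_notMem hx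
      have : (⟨ψ, h2 c (mem_span_singleton_self c)⟩ : C) ∈ An x := e ▸ mem_top
      exact h1 this
    have hAr : Ar ≠ ⊤ := by
      intro e
      obtain ⟨ψ, h1, h2⟩ := exists_dual_of_notMem hu0
      have : (⟨ψ, h2 c (mem_span_singleton_self c)⟩ : C) ∈ Ar := e ▸ mem_top
      exact h1 (LinearMap.congr_fun (LinearMap.mem_ker.mp this) u0)
    let Bad : Submodule K C :=
      if h : ∃ ψ : C, IsBad A v ψ then K ∙ h.choose else ⊥
    have hBad : ∀ ψ : C, IsBad A v ψ → ψ ∈ Bad := by
      intro ψ hψ
      have h : ∃ ψ : C, IsBad A v ψ := ⟨ψ, hψ⟩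
      simp only [Bad, dif_pos h]
      obtain ⟨t, ht⟩ := isBad_unique A hAv h3 h.choose_spec hψ
      exact mem_span_singleton.mpr ⟨t, Subtype.ext ht.symm⟩
    have hBadtop : Bad ≠ ⊤ := by
      intro e
      obtain ⟨x, hx⟩ := exists_notMem_of_finrank_lt (U := span K ({v, c} : Set V))
        (lt_of_le_of_lt (finrank_span_pair_le _ _) (by omega))
      obtain ⟨ψ, h1, h2⟩ := exists_dual_of_notMem hx
      have hmem : (⟨ψ, h2 c (subset_span (by simp))⟩ : C) ∈ Bad := e ▸ mem_top
      simp only [Bad] at hmem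
      split_ifs at hmem with h
      · obtain ⟨t, ht⟩ := mem_span_singleton.mp hmem
        have ht' : t • (h.choose : Module.Dual K V) = ψ := congrArg Subtype.val ht
        have : t * (h.choose : Module.Dual K V) v = 0 := by
          rw [← smul_eq_mul, ← LinearMap.smul_apply, ht']
          exact h2 v (subset_span (by simp))
        rcases mul_eq_zero.mp this with rfl | h'
        · rw [zero_smul] at ht'
          exact h1 (by rw [← ht']; rfl)
        · exact h.choose_spec.2.1 h'
      · have : ψ = 0 := congrArg Subtype.val ((mem_bot K).mp hmem)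
        exact h1 (by rw [this]; rfl)
    set S := (K ∙ A v).comap (A - 1) with hS
    -- the dimension of `S`
    have hSle : (LinearMap.range (A - 1) = ⊤ ∧ finrank K S ≤ 1) ∨
        (LinearMap.range (A - 1) ≠ ⊤ ∧
          finrank K S + finrank K (LinearMap.range (A - 1)) = finrank K V) := by
      by_cases htop : LinearMap.range (A - 1) = ⊤
      · left
        refine ⟨htop, ?_⟩
        have hinj : Function.Injective (A - 1 : Module.End K V) :=
          LinearMap.injective_iff_surjective.mpr (LinearMap.range_eq_top.mp htop)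
        rw [(Submodule.equivMapOfInjective _ hinj S).finrank_eq]
        refine (Submodule.finrank_mono (Submodule.map_comap_le _ _)).trans ?_
        rw [finrank_span_singleton]
        intro e
        exact hAv (e ▸ zero_mem _)
      · right
        refine ⟨htop, ?_⟩
        have : S = LinearMap.ker (A - 1) := by
          refine le_antisymm (fun x hx => ?_) fun x hx => by
            simp [hS, LinearMap.mem_ker.mp hx]
          obtain ⟨t, ht⟩ := mem_span_singleton.mp hx
          rcases eq_or_ne t 0 with rfl | ht0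
          · rw [zero_smul] at ht
            exact ht.symm
          · refine absurd (hvR ?_) htop
            have hAvR : A v ∈ LinearMap.range (A - 1) :=
              ⟨t⁻¹ • x, by rw [map_smul, ← ht, inv_smul_smul₀ ht0]⟩
            have : v = A v - (A - 1) v := by simp
            rw [this]
            exact sub_mem hAvR ⟨v, rfl⟩
        rw [this, ← hrangeV, add_comm]
    -- the two cases
    by_cases hcase : finrank K S + 3 ≤ finrank K V
    · obtain ⟨ψ, hψ⟩ := exists_avoid (K := K) (V := C) [An v, An c0, Ar, Bad] T (by simp [hT]) (by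
        simp only [List.mem_cons, List.not_mem_nil, or_false]
        rintro W (rfl | rfl | rfl | rfl)
        exacts [hAn v hvc, hAn c0 hc0c, hAr, hBadtop])
      simp only [List.mem_cons, List.not_mem_nil, or_false, forall_eq_or_imp, forall_eq] at hψ
      obtain ⟨h1, h2, h4, h5⟩ := hψ
      refine ⟨ψ, ψ.2, h1, h2, ?_, fun _ => ⟨Or.inl hcase, fun hb => h5 (hBad ψ hb)⟩⟩
      by_contra hcon
      push Not at hcon
      exact h4 (LinearMap.ext hcon)
    · have hex : ∃ s ∈ S, s ∉ K ∙ c ∧ finrank K S + 2 = finrank K V := by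
        rcases hSle with ⟨htop, hS1⟩ | ⟨htop, hSd⟩
        · have hV : finrank K V = 3 := by omega
          obtain ⟨s, hs⟩ := LinearMap.range_eq_top.mp htop (A v)
          have hsS : s ∈ S := by
            change (A - 1) s ∈ K ∙ A v
            rw [hs]
            exact mem_span_singleton_self _
          refine ⟨s, hsS, notMem_of_dim_three A hdet hV htop hAv hs, ?_⟩
          have : S ≠ ⊥ := fun e => by
            rw [e, mem_bot] at hsS
            rw [hsS, map_zero] at hs
            exact hAv (hs ▸ zero_mem _)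
          have := Submodule.one_le_finrank_iff.mpr this
          omega
        · have hle : ¬ S ≤ K ∙ c := by
            intro hle
            have h1 := Submodule.finrank_mono hle
            rw [finrank_span_singleton hcne] at h1
            have heq := Submodule.eq_of_le_of_finrank_eq hle
              (by rw [finrank_span_singleton hcne]; omega)
            refine hD2 (by omega) htop ?_
            have hcS : c ∈ S := heq ▸ mem_span_singleton_self c
            obtain ⟨t, ht⟩ := mem_span_singleton.mp (hcS : (A - 1) c ∈ K ∙ A v)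
            rcases eq_or_ne t 0 with rfl | ht0
            · rw [zero_smul] at ht
              exact ht.symm
            · refine absurd (hvR ?_) htop
              have hAvR : A v ∈ LinearMap.range (A - 1) :=
                ⟨t⁻¹ • c, by rw [map_smul, ← ht, inv_smul_smul₀ ht0]⟩
              have : v = A v - (A - 1) v := by simp
              rw [this]
              exact sub_mem hAvR ⟨v, rfl⟩
          obtain ⟨s, hs, hsc⟩ := Set.not_subset.mp hle
          exact ⟨s, hs, hsc, by omega⟩
      obtain ⟨s, hsS, hsc, hSd⟩ := hex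
      -- a bad functional forces dimension three and odd characteristic
      have hbad3 : ∀ ψ : Module.Dual K V, IsBad A v ψ → ψ s ≠ 0 → (2 : K) ≠ 0 := by
        rintro ψ ⟨hψc, hψv, μ, hμ1, hμn, hμ⟩ _ h2
        have hdisj : S ⊓ LinearMap.ker ψ = ⊥ := by
          rw [eq_bot_iff]
          rintro w ⟨hw1, hw2⟩
          obtain ⟨a, ha⟩ := mem_span_singleton.mp (hw1 : (A - 1) w ∈ K ∙ A v)
          obtain ⟨b, hb⟩ := mem_span_singleton.mp (hμ w hw2)
          have hw : w = ((a - b) / (μ - 1)) • A v := by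
            have h : (μ - 1) • w = (a - b) • A v := by
              rw [sub_smul, sub_smul, ha, hb, LinearMap.sub_apply, Module.End.one_apply]
              module
            rw [div_eq_inv_mul, mul_smul, ← h, inv_smul_smul₀ (sub_ne_zero.2 hμ1)]
          have hψA : ψ (A v) = ψ v := by
            rw [← sub_eq_zero, ← map_sub]
            exact hψc
          have h0 : ψ w = 0 := hw2
          rw [hw, map_smul, hψA, smul_eq_mul, mul_eq_zero] at h0
          rw [mem_bot, hw, h0.resolve_right hψv, zero_smul]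
        have h := Submodule.finrank_sup_add_finrank_inf_eq S (LinearMap.ker ψ)
        rw [hdisj, finrank_bot, add_zero] at h
        have := Submodule.finrank_le (S ⊔ LinearMap.ker ψ)
        have := finrank_ker_add_one v ψ hψv
        have h3' : finrank K V - 1 = 2 := by omega
        rw [h3', sq, mul_self_eq_one_iff] at hμn
        rcases hμn with rfl | rfl
        · exact hμ1 rfl
        · exact hμ1 (by linear_combination (-1 : K) * h2)
      by_cases hbadex : ∃ ψ : Module.Dual K V, IsBad A v ψ ∧ ψ s ≠ 0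
      · obtain ⟨ψ0, hψ0, hψ0s⟩ := hbadex
        obtain ⟨T', hT'⟩ := hT5 (hbad3 ψ0 hψ0 hψ0s)
        obtain ⟨ψ, hψ⟩ := exists_avoid (K := K) (V := C) [An v, An c0, Ar, An s, Bad] T' (by simp [hT']) (by
          simp only [List.mem_cons, List.not_mem_nil, or_false]
          rintro W (rfl | rfl | rfl | rfl | rfl)
          exacts [hAn v hvc, hAn c0 hc0c, hAr, hAn s hsc, hBadtop])
        simp only [List.mem_cons, List.not_mem_nil, or_false, forall_eq_or_imp, forall_eq] at hψ
        obtain ⟨h1, h2, h4, h5, h6⟩ := hψ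
        refine ⟨ψ, ψ.2, h1, h2, ?_, fun _ => ⟨Or.inr ⟨s, hsS, h5, hSd.le⟩,
          fun hb => h6 (hBad ψ hb)⟩⟩
        by_contra hcon
        push Not at hcon
        exact h4 (LinearMap.ext hcon)
      · obtain ⟨ψ, hψ⟩ := exists_avoid (K := K) (V := C) [An v, An c0, Ar, An s] T (by simp [hT]) (by
          simp only [List.mem_cons, List.not_mem_nil, or_false]
          rintro W (rfl | rfl | rfl | rfl)
          exacts [hAn v hvc, hAn c0 hc0c, hAr, hAn s hsc])
        simp only [List.mem_cons, List.not_mem_nil, or_false, forall_eq_or_imp, forall_eq] at hψ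
        obtain ⟨h1, h2, h4, h5⟩ := hψ
        refine ⟨ψ, ψ.2, h1, h2, ?_, fun _ => ⟨Or.inr ⟨s, hsS, h5, hSd.le⟩,
          fun hb => hbadex ⟨ψ, hb, h5⟩⟩⟩
        by_contra hcon
        push Not at hcon
        exact h4 (LinearMap.ext hcon)
  · obtain ⟨ψ, h1, h2⟩ := exists_dual_of_notMem hvc
    have hψc : ψ c = 0 := h2 c (mem_span_singleton_self c)
    have hker : LinearMap.ker ψ = K ∙ c := by
      refine (Submodule.eq_of_le_of_finrank_le ?_ ?_).symm
      · rwa [span_singleton_le_iff_mem]
      · have := finrank_ker_add_one v ψ h1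
        rw [finrank_span_singleton hcne]
        omega
    refine ⟨ψ, hψc, h1, fun e => hc0c (hker ▸ e), ⟨u0, fun e => hu0 (hker ▸ e)⟩,
      fun h => absurd h h3⟩

end CfsgLib.Sourour
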