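import Cfsg.Agent.Sourour.Functional
import Mathlib.LinearAlgebra.Matrix.SchurComplement
import Mathlib.LinearAlgebra.Matrix.Basis

/-!
# Triangular factorisation with regular unipotent factors
-/

set_option autoImplicit false

namespace CfsgLib.Sourour

open Matrix Module Submodule

universe u

variable {K : Type*} [Field K]

theorem exists_LU (T : Finset K) (hT : T.card = 4)
    (hT5 : (2 : K) ≠ 0 → ∃ T' : Finset K, T'.card = 5) :
    ∀ (k : ℕ) (V : Type u) [AddCommGroup V] [Module K V] [FiniteDimensional K V],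
      finrank K V = k + 1 → ∀ A : Module.End K V, LinearMap.det A = 1 → (1 ≤ k → Good A) →
      ∀ c0 : V, c0 ≠ 0 → ∀ r0 : Module.Dual K V, r0 ≠ 0 →
      ∃ (b : Basis (Fin (k + 1)) K V) (L U : Matrix (Fin (k + 1)) (Fin (k + 1)) K),
        RegLower L ∧ RegUpper U ∧ LinearMap.toMatrix b b A = L * U ∧ b.repr c0 0 ≠ 0 ∧
          r0 (b 0) ≠ 0 := by
  intro k
  induction k with
  | zero =>
    intro V _ _ _ hV A hdet _ c0 hc0 r0 hr0
    let b : Basis (Fin 1) K V := Module.finBasisOfFinrankEq K V hV
    have h1 : RegLower (1 : Matrix (Fin 1) (Fin 1) K) :=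
      ⟨fun i j h => by omega, fun i => one_apply_eq i, fun i j h => by omega⟩
    refine ⟨b, 1, 1, h1, by rw [RegUpper, transpose_one]; exact h1, ?_, ?_, ?_⟩
    · rw [eq_one_of_det_eq_one hV hdet, LinearMap.toMatrix_one, mul_one]
    · intro e
      refine hc0 (b.repr.map_eq_zero_iff.mp (Finsupp.ext fun i => ?_))
      rw [Fin.fin_one_eq_zero i, e]
      rfl
    · intro e
      refine hr0 (b.ext fun i => ?_)
      rw [Fin.fin_one_eq_zero i, e, LinearMap.zero_apply]
  | succ k ih =>
    intro V _ _ _ hV A hdet hA c0 hc0 r0 hr0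
    obtain ⟨v, φ, hφv, hφc, hc, hr0v, hφc0, ⟨w, hw, hwA⟩, hgood⟩ :=
      exists_phi T hT hT5 A hdet (hA (by omega)) r0 hr0 c0 hc0
    have hW := finrank_ker_add_one v φ (by rw [hφv]; exact one_ne_zero)
    let r : Module.Dual K (LinearMap.ker φ) := φ ∘ₗ A ∘ₗ (LinearMap.ker φ).subtype
    have hr : r ≠ 0 := fun e => hwA (LinearMap.congr_fun e ⟨w, hw⟩)
    obtain ⟨b, L, U, hL, hU, hLU, hc', hr'⟩ := ih (LinearMap.ker φ) (by omega)
      (schur A v φ hφv hφc) (by rw [det_schur, hdet]) (fun h => hgood (by omega))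
      ⟨(A - 1) v, hφc⟩ (fun e => hc (congrArg Subtype.val e)) r hr
    refine ⟨consBasis v φ hφv b, blk 1 0 (b.repr ⟨(A - 1) v, hφc⟩) L,
      blk 1 (fun j => φ (A (b j))) 0 U, RegLower.blk hL hc', RegUpper.blk hU hr', ?_, ?_, ?_⟩
    · rw [toMatrix_consBasis A v φ hφv hφc b, hLU, blk_mul]
      simp
    · rw [consBasis_repr v φ hφv b c0 ⟨c0 - φ c0 • v, by simp [hφv]⟩ rfl, Fin.cons_zero]
      exact hφc0
    · rwa [consBasis_zero]

/-- A matrix similar to a product of two conjugates of `u` is such a product. -/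
theorem prod_conj_of_similar {n : ℕ} (u : (Matrix (Fin n) (Fin n) K)ˣ)
    (g L U : Matrix (Fin n) (Fin n) K) (X p q : (Matrix (Fin n) (Fin n) K)ˣ)
    (hg : g = (X : Matrix (Fin n) (Fin n) K) * (L * U) * (↑(X⁻¹) : Matrix (Fin n) (Fin n) K))
    (hL : L = (p : Matrix (Fin n) (Fin n) K) * u * (↑(p⁻¹) : Matrix (Fin n) (Fin n) K))
    (hU : U = (q : Matrix (Fin n) (Fin n) K) * u * (↑(q⁻¹) : Matrix (Fin n) (Fin n) K)) :
    g = ((X * p * u * (X * p)⁻¹) * (X * q * u * (X * q)⁻¹) : (Matrix (Fin n) (Fin n) K)ˣ) := by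
  subst hg hL hU
  simp [_root_.mul_assoc]

/-- A transvection is the product of two regular lower unitriangular matrices. -/
theorem transvection_LU {n : ℕ} (T : Finset K) (hT : T.card = 4) :
    ∃ L U : Matrix (Fin (n + 2)) (Fin (n + 2)) K, RegLower L ∧ RegLower U ∧
      1 + Matrix.single 1 0 1 = L * U := by
  classical
  obtain ⟨t, -, ht⟩ := Finset.exists_mem_notMem_of_card_lt_card (s := ({0, 1} : Finset K)) (t := T)
    (by have := Finset.card_le_two (a := (0 : K)) (b := 1); omega)
  simp only [Finset.mem_insert, Finset.mem_singleton, not_or] at ht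
  let L2 : Matrix (Fin (n + 2)) (Fin (n + 2)) K := Matrix.of fun i j =>
    if i = j then 1 else if i.val = j.val + 1 then (if j.val = 0 then t else 1) else 0
  have hL2 : RegLower L2 := by
    refine ⟨fun i j h => ?_, fun i => ?_, fun i j h => ?_⟩
    · simp only [L2, Matrix.of_apply]
      rw [if_neg (Fin.ne_of_val_ne (by omega)), if_neg (by omega)]
    · simp [L2]
    · simp only [L2, Matrix.of_apply]
      rw [if_neg (Fin.ne_of_val_ne (by omega)), if_pos h]
      split_ifs
      exacts [ht.1, one_ne_zero]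
  have hdet : L2.det = 1 := by
    rw [Matrix.det_of_isLowerTriangular L2 (fun i j h => hL2.1 i j (by exact_mod_cast h))]
    exact Finset.prod_eq_one fun i _ => hL2.2.1 i
  set E := (1 : Matrix (Fin (n + 2)) (Fin (n + 2)) K) + Matrix.single 1 0 1
  have hI : IsUnit L2.det := by rw [hdet]; exact isUnit_one
  refine ⟨E * L2⁻¹, L2, ?_, hL2, by rw [mul_assoc, nonsing_inv_mul _ hI, mul_one]⟩
  set L := E * L2⁻¹
  have hmul : L * L2 = E := by rw [mul_assoc, nonsing_inv_mul _ hI, mul_one]
  -- lower triangularity of `L`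
  haveI : Invertible L2 := L2.invertibleOfIsUnitDet hI
  have hlow : L.IsLowerTriangular := by
    refine Matrix.BlockTriangular.mul ?_ (blockTriangular_inv_of_blockTriangular
      (fun i j h => hL2.1 i j (by exact_mod_cast h)))
    intro i j h
    have hij : i.val < j.val := by exact_mod_cast h
    simp only [E, Matrix.add_apply]
    rw [one_apply_ne (Fin.ne_of_val_ne (by omega)), Matrix.single_apply, if_neg, add_zero]
    rintro ⟨rfl, rfl⟩
    simp at hij
  have hz : ∀ i j : Fin (n + 2), i.val < j.val → L i j = 0 := fun i j h => hlow (by exact_mod_cast h)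
  have hEd : ∀ i, E i i = 1 := fun i => by
    simp only [E, Matrix.add_apply, one_apply_eq, Matrix.single_apply]
    rw [if_neg (fun e => by simpa using congrArg Fin.val (e.1.trans e.2.symm)), add_zero]
  have hd : ∀ i, L i i = 1 := fun i => by
    have h := congrFun (congrFun hmul i) i
    rw [hEd, mul_apply, Finset.sum_eq_single i, hL2.2.1, mul_one] at h
    · exact h
    · intro l _ hl
      have : l.val ≠ i.val := fun e => hl (Fin.ext e)
      rcases lt_or_ge i.val l.val with h' | h'
      · rw [hz i l h', zero_mul]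
      · rw [hL2.1 l i (by omega), mul_zero]
    · simp
  refine ⟨hz, hd, fun i j hij => ?_⟩
  have h := congrFun (congrFun hmul i) j
  have hij' : i ≠ j := Fin.ne_of_val_ne (by omega)
  rw [mul_apply, Finset.sum_eq_add_of_mem j i (Finset.mem_univ _) (Finset.mem_univ _) hij'.symm,
    hL2.2.1, mul_one, hd, one_mul] at h
  swap
  · intro l _ hl
    have h1 : l.val ≠ j.val := fun e => hl.1 (Fin.ext e)
    have h2 : l.val ≠ i.val := fun e => hl.2 (Fin.ext e)
    rcases lt_or_ge i.val l.val with h' | h'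
    · rw [hz i l h', zero_mul]
    · rw [hL2.1 l j (by omega), mul_zero]
  simp only [E, L2, Matrix.of_apply, Matrix.add_apply, one_apply_ne hij', if_neg hij',
    if_pos hij, Matrix.single_apply, zero_add] at h
  intro e
  rw [e, zero_add] at h
  rcases Nat.eq_zero_or_pos j.val with hj | hj
  · rw [if_pos hj, if_pos] at h
    · exact ht.2 h
    · exact ⟨Fin.ext (by simp; omega), Fin.ext (by simp; omega)⟩
  · rw [if_neg (by omega), if_neg] at h
    · exact one_ne_zero h
    · rintro ⟨-, rfl⟩
      simp at hj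

end CfsgLib.Sourour
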