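import Cfsg.Agent.Sourour.Step

/-!
# The choice of the first basis vector
-/

set_option autoImplicit false

namespace CfsgLib.Sourour

open Matrix Module Submodule

variable {K V : Type*} [Field K] [AddCommGroup V] [Module K V] [FiniteDimensional K V]

theorem exists_range_notMem_line {f : Module.End K V} (h : 2 ≤ finrank K (LinearMap.range f)) (c : V) :
    ∃ u, f u ∉ K ∙ c := by
  by_contra hc
  push Not at hc
  have hle : LinearMap.range f ≤ K ∙ c := by
    rintro _ ⟨u, rfl⟩
    exact hc u
  have h1 := Submodule.finrank_mono hle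
  rcases eq_or_ne c 0 with rfl | hc0
  · rw [Submodule.span_zero_singleton, finrank_bot] at h1
    omega
  · rw [finrank_span_singleton hc0] at h1
    omega

/-- A vector of an affine hyperplane, other than a given point, that is not an eigenvector. -/
theorem exists_nonEigen (T : Finset K) (hT : T.card = 4) (A : Module.End K V)
    (hA : ∀ μ : K, A ≠ μ • 1) (r0 : Module.Dual K V) (hr0 : r0 ≠ 0) (p : V) :
    ∃ v, r0 v = 1 ∧ v ≠ p ∧ A v ∉ K ∙ v := by
  classical
  by_contra hc
  push Not at hc
  obtain ⟨e, he⟩ : ∃ e, r0 e = 1 := by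
    obtain ⟨u, hu⟩ : ∃ u, r0 u ≠ 0 := by
      by_contra hh
      push Not at hh
      exact hr0 (LinearMap.ext hh)
    exact ⟨(r0 u)⁻¹ • u, by simp [hu]⟩
  -- all good points of the hyperplane have one eigenvalue
  have key : ∀ x y, r0 x = 1 → x ≠ p → r0 y = 1 → y ≠ p → ∀ a b : K, A x = a • x → A y = b • y →
      a = b := by
    intro x y hx hxp hy hyp a b ha hb
    rcases eq_or_ne x y with rfl | hxy
    · have hx0 : x ≠ 0 := fun e0 => by simp [e0] at hx
      exact smul_left_injective K hx0 (ha.symm.trans hb)
    · obtain ⟨t, ht, ht'⟩ : ∃ t : K, t ∈ T ∧ t ≠ 0 ∧ t ≠ 1 ∧ x + t • (y - x) ≠ p := by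
        by_contra hh
        push Not at hh
        have hinj : ∀ s u : K, x + s • (y - x) = x + u • (y - x) → s = u := fun s u h =>
          smul_left_injective K (sub_ne_zero.2 hxy.symm) (add_left_cancel h)
        by_cases hp : ∃ s : K, x + s • (y - x) = p
        · obtain ⟨s, hs⟩ := hp
          have : T ⊆ {0, 1, s} := fun t ht => by
            by_cases h0 : t = 0
            · simp [h0]
            by_cases h1 : t = 1
            · simp [h1]
            have := hinj t s ((hh t ht h0 h1).trans hs.symm)
            simp [this]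
          have := Finset.card_le_card this
          have := Finset.card_le_three (a := (0 : K)) (b := 1) (c := s)
          omega
        · have : T ⊆ {0, 1} := fun t ht => by
            by_cases h0 : t = 0
            · simp [h0]
            by_cases h1 : t = 1
            · simp [h1]
            exact absurd ⟨t, hh t ht h0 h1⟩ hp
          have := Finset.card_le_card this
          have := Finset.card_le_two (a := (0 : K)) (b := 1)
          omega
      have hz : r0 (x + t • (y - x)) = 1 := by simp [hx, hy]
      obtain ⟨c, hcz⟩ := mem_span_singleton.mp (hc _ hz ht'.2.2)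
      -- independence of x and y
      have hli : ∀ α β : K, α • x + β • y = 0 → α = 0 ∧ β = 0 := by
        intro α β h
        have h' : α + β = 0 := by simpa [hx, hy] using congrArg r0 h
        have : β • (y - x) = 0 := by
          rw [← h, eq_neg_of_add_eq_zero_left h', smul_sub, neg_smul]
          abel
        have hβ : β = 0 := (smul_eq_zero.mp this).resolve_right (sub_ne_zero.2 hxy.symm)
        exact ⟨by rw [eq_neg_of_add_eq_zero_left h', hβ, neg_zero], hβ⟩
      have h2 : ((1 - t) * (a - c)) • x + (t * (b - c)) • y = 0 := by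
        have h3 : A (x + t • (y - x)) = a • x + t • (b • y - a • x) := by
          rw [map_add, map_smul, map_sub, ha, hb]
        rw [← hcz] at h3
        have h4 : a • x + t • (b • y - a • x) - c • (x + t • (y - x)) = 0 := by
          rw [← h3, sub_self]
        rw [← h4]
        module
      obtain ⟨hα, hβ⟩ := hli _ _ h2
      have h5 := (mul_eq_zero.mp hα).resolve_left (sub_ne_zero.2 ht'.2.1.symm)
      have h6 := (mul_eq_zero.mp hβ).resolve_left ht'.1
      rw [sub_eq_zero.mp h5, sub_eq_zero.mp h6]
  -- a line through any point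
  have kerA : ∃ μ : K, ∀ x, r0 x = 1 → x ≠ p → A x = μ • x := by
    by_cases h : ∃ x, r0 x = 1 ∧ x ≠ p
    · obtain ⟨x, hx, hxp⟩ := h
      obtain ⟨a, ha⟩ := mem_span_singleton.mp (hc x hx hxp)
      refine ⟨a, fun y hy hyp => ?_⟩
      obtain ⟨b, hb⟩ := mem_span_singleton.mp (hc y hy hyp)
      rw [key x y hx hxp hy hyp a b ha.symm hb.symm, hb]
    · exact ⟨0, fun x hx hxp => absurd ⟨x, hx, hxp⟩ h⟩
  obtain ⟨μ, hμ⟩ := kerA
  have hker : ∀ u, r0 u = 0 → A u = μ • u := by
    intro u hu
    rcases eq_or_ne u 0 with rfl | hu0
    · simp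
    have hinj : ∀ s t : K, e + s • u = e + t • u → s = t := fun s t h =>
      smul_left_injective K hu0 (add_left_cancel h)
    obtain ⟨s, hs, t, ht, hst, h1, h2⟩ : ∃ s : K, s ∈ T ∧ ∃ t : K, t ∈ T ∧ s ≠ t ∧ e + s • u ≠ p ∧ e + t • u ≠ p := by
      set T' := T.filter fun t => e + t • u ≠ p
      have h3 : 1 < T'.card := by
        have hsplit := Finset.card_filter_add_card_filter_not (s := T) (fun t : K => e + t • u ≠ p)
        have : (T.filter fun t => ¬ e + t • u ≠ p).card ≤ 1 :=
          Finset.card_le_one.mpr fun a ha b hb => by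
            simp only [Finset.mem_filter, not_not] at ha hb
            exact hinj a b (ha.2.trans hb.2.symm)
        change 1 < (T.filter fun t => e + t • u ≠ p).card
        omega
      obtain ⟨s, hs, t, ht, hst⟩ := Finset.one_lt_card.mp h3
      simp only [T', Finset.mem_filter] at hs ht
      exact ⟨s, hs.1, t, ht.1, hst, hs.2, ht.2⟩
    have e1 := hμ _ (by simp [he, hu]) h1
    have e2 := hμ _ (by simp [he, hu]) h2
    have e3 : (s - t) • A u = (s - t) • (μ • u) := by
      have := congrArg₂ (· - ·) e1 e2
      simp only [map_add, map_smul] at this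
      linear_combination (norm := module) this
    exact smul_right_injective V (sub_ne_zero.2 hst) e3
  have he' : A e = μ • e := by
    by_cases hep : e = p
    · by_cases hu : ∃ u, r0 u = 0 ∧ u ≠ 0
      · obtain ⟨u, hu, hu0⟩ := hu
        have := hμ (e + u) (by simp [he, hu]) (by rw [← hep]; simpa using hu0)
        rw [map_add, hker u hu, smul_add] at this
        exact add_right_cancel this
      · exfalso
        push Not at hu
        obtain ⟨a, ha⟩ : ∃ a, A e = a • e := ⟨r0 (A e), by
          have := hu (A e - r0 (A e) • e) (by simp [he])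
          exact sub_eq_zero.mp this⟩
        refine hA a (LinearMap.ext fun z => ?_)
        have hz := sub_eq_zero.mp (hu (z - r0 z • e) (by simp [he]))
        rw [hz]
        simp only [map_smul, ha, LinearMap.smul_apply, Module.End.one_apply]

    · exact hμ e he hep
  refine hA μ (LinearMap.ext fun z => ?_)
  have h := hker (z - r0 z • e) (by simp [he])
  rw [map_sub, map_smul, he', smul_sub] at h
  simp only [LinearMap.smul_apply, Module.End.one_apply]
  linear_combination (norm := module) h

/-- The choice of the first basis vector. -/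
theorem exists_vec (T : Finset K) (hT : T.card = 4) (A : Module.End K V) (hA : Good A)
    (r0 : Module.Dual K V) (hr0 : r0 ≠ 0) (c0 : V) (hc0 : c0 ≠ 0) :
    ∃ v, r0 v ≠ 0 ∧ (A - 1) v ∉ K ∙ c0 ∧ A v ∉ K ∙ v ∧
      (v ∈ LinearMap.range (A - 1) → LinearMap.range (A - 1) = ⊤) ∧
      (finrank K V = 3 → LinearMap.range (A - 1) ≠ ⊤ → (A - 1) ((A - 1) v) ≠ 0) := by
  classical
  set R := LinearMap.range (A - 1) with hR
  by_cases htop : R = ⊤
  · have hinj : Function.Injective (A - 1 : Module.End K V) :=
      LinearMap.injective_iff_surjective.mpr (LinearMap.range_eq_top.mp htop)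
    obtain ⟨g, hg⟩ := LinearMap.range_eq_top.mp htop c0
    obtain ⟨v, hv1, hvp, hv⟩ := exists_nonEigen T hT A hA.2 r0 hr0 ((r0 g)⁻¹ • g)
    refine ⟨v, by simp [hv1], fun hm => hvp ?_, hv, fun _ => htop, fun _ h => absurd htop h⟩
    obtain ⟨t, ht⟩ := mem_span_singleton.mp hm
    have hvg : v = t • g := hinj (by rw [map_smul, hg, ht])
    rw [hvg, map_smul, smul_eq_mul] at hv1
    rw [hvg, eq_inv_of_mul_eq_one_left hv1]
  · let U : Submodule K V :=
      if finrank K V = 3 then LinearMap.ker ((A - 1) ∘ₗ (A - 1)) else R
    have hU : U ≠ ⊤ := by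
      simp only [U]
      split_ifs with h3
      · intro e
        have hle : R ≤ LinearMap.ker (A - 1) := by
          rintro _ ⟨u, rfl⟩
          have : u ∈ LinearMap.ker ((A - 1) ∘ₗ (A - 1)) := e ▸ mem_top
          exact this
        have := Submodule.finrank_mono hle
        have := (A - 1).finrank_range_add_finrank_ker
        have h2 : 2 ≤ finrank K R := hA.1
        change finrank K R + _ = _ at this
        omega
      · exact htop
    obtain ⟨v, hv⟩ := exists_avoid [LinearMap.ker r0, (K ∙ c0).comap (A - 1), R, U] T
      (by simp [hT]) (by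
        simp only [List.mem_cons, List.not_mem_nil, or_false]
        rintro W (rfl | rfl | rfl | rfl)
        · exact fun e => hr0 (LinearMap.ker_eq_top.mp e)
        · intro e
          obtain ⟨u, hu⟩ := exists_range_notMem_line hA.1 c0
          have : u ∈ (K ∙ c0).comap (A - 1) := e ▸ mem_top
          exact hu this
        · exact htop
        · exact hU)
    simp only [List.mem_cons, List.not_mem_nil, or_false, forall_eq_or_imp, forall_eq] at hv
    obtain ⟨h1, h2, h3, h4⟩ := hv
    refine ⟨v, h1, h2, fun hm => ?_, fun h => absurd h h3, fun h _ => ?_⟩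
    · obtain ⟨t, ht⟩ := mem_span_singleton.mp hm
      rcases eq_or_ne t 1 with rfl | ht1
      · exact h2 (by simp [← ht])
      · refine h3 ⟨(t - 1)⁻¹ • v, ?_⟩
        rw [map_smul, LinearMap.sub_apply, Module.End.one_apply, ← ht, ← smul_right_injective V
          (sub_ne_zero.2 ht1) |>.eq_iff, smul_inv_smul₀ (sub_ne_zero.2 ht1), sub_smul, one_smul]
    · simpa [U, h] using h4

end CfsgLib.Sourour
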